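import Groth.Agent.AgPol.K399.LevPts
import Groth.Agent.Flat2G.ProperDim
import Groth.Agent.Desc.MorDescent
import Mathlib.AlgebraicGeometry.AlgClosed.Basic
import Groth.Agent.AgPol.K117.Nodes
import Mathlib.AlgebraicGeometry.Morphisms.LocalFlatDescent

/-!
# Descent of abelian schemes and level structures along finite locally free covers

* `abDesc`: `IsAbSch` descends along a finite locally free surjective base change;
* `levDesc`: level structures descend along a finite flat surjective base change.
-/

set_option autoImplicit false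
universe u

open CategoryTheory Limits MonoidalCategory CartesianMonoidalCategory AlgebraicGeometry
open scoped MonObj

namespace K251.FinDesc

open K399.LevPts

/-- A field-valued point of the target of a surjective morphism lifts after a field extension. -/
theorem exists_field {T T' : Scheme.{u}} (p : T' ⟶ T) [Surjective p] (K : Type u) [Field K]
    (y : Spec (CommRingCat.of K) ⟶ T) : ∃ (L : Type u) (_ : Field L) (a : Spec (CommRingCat.of L) ⟶ T')
      (b : Spec (CommRingCat.of L) ⟶ Spec (CommRingCat.of K)), a ≫ p = b ≫ y := by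
  obtain ⟨x, -⟩ := (pullback.snd p y).surjective (IsLocalRing.closedPoint K)
  exact ⟨(pullback p y).residueField x, inferInstance, (pullback p y).fromSpecResidueField x ≫ pullback.fst p y,
    (pullback p y).fromSpecResidueField x ≫ pullback.snd p y, by
      rw [Category.assoc, Category.assoc, pullback.condition]⟩

theorem geometricallyConnected {T T' : Scheme.{u}} (p : T' ⟶ T) [Surjective p] (A : Over T)
    (h : GeometricallyConnected (Red.bc p A).hom) : GeometricallyConnected A.hom := by
  refine ⟨fun K _ y Z u v hZ => ?_⟩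
  obtain ⟨L, _, a, b, hab⟩ := exists_field p K y
  have h1 : IsPullback (pullback.fst (pullback.snd A.hom p) a) (pullback.snd (pullback.snd A.hom p) a)
      (pullback.snd A.hom p) a := IsPullback.of_hasPullback _ _
  have h2 : ConnectedSpace ↥(pullback (pullback.snd A.hom p) a) :=
    GeometricallyConnected.geometrically_connectedSpace (f := (Red.bc p A).hom) a _ _ h1
  have h3 : IsPullback (pullback.fst (pullback.snd A.hom p) a ≫ pullback.fst A.hom p)
      (pullback.snd (pullback.snd A.hom p) a) A.hom (b ≫ y) := by
    rw [← hab]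
    exact (h1.flip.paste_vert (IsPullback.of_hasPullback A.hom p).flip).flip
  let l : pullback (pullback.snd A.hom p) a ⟶ Z := hZ.lift (pullback.fst _ a ≫ pullback.fst A.hom p)
    (pullback.snd _ a ≫ b) (by rw [h3.w, Category.assoc])
  have h4 : IsPullback l (pullback.snd (pullback.snd A.hom p) a) v b := by
    refine IsPullback.of_right ?_ (hZ.lift_snd _ _ _) hZ
    rw [hZ.lift_fst]
    exact h3
  have h5 : Surjective b := ⟨fun x => ⟨IsLocalRing.closedPoint L, by
    have : Subsingleton (Spec (CommRingCat.of K)) := inferInstanceAs (Subsingleton (PrimeSpectrum K))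
    exact Subsingleton.elim _ _⟩⟩
  have h6 : Surjective l := MorphismProperty.of_isPullback h4.flip h5
  exact h6.surj.connectedSpace l.continuous

theorem abDesc (T T' : Scheme.{u}) (p : T' ⟶ T) [Surjective p] [IsFinite p] [Flat p]
    [LocallyOfFinitePresentation p] (A : Over T) [GrpObj A] (g : ℕ) (h : AgPol.IsAbSch (Red.bc p A) g) :
    AgPol.IsAbSch A g := by
  have h1 : (@Surjective ⊓ @Flat ⊓ @QuasiCompact : MorphismProperty Scheme.{u}) p :=
    ⟨⟨‹_›, ‹_›⟩, inferInstance⟩
  have h2 : IsPullback (pullback.snd A.hom p) (pullback.fst A.hom p) p A.hom :=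
    (IsPullback.of_hasPullback A.hom p).flip
  have hs : Smooth A.hom := MorphismProperty.of_isPullback_of_descendsAlong (P := @Smooth)
      (Q := @Surjective ⊓ @Flat ⊓ @QuasiCompact) h2 h1 h.smooth
  have h3 := Groth.Agent.Desc.MorDescent.descendsAlong_isProper.{u}
  have hp : IsProper A.hom := MorphismProperty.of_isPullback_of_descendsAlong (P := @IsProper)
      (Q := @Surjective ⊓ @Flat ⊓ @QuasiCompact) h2 h1 h.proper
  refine ⟨hs, hp, geometricallyConnected p A h.geomConnected, fun s => ?_⟩
  obtain ⟨s', rfl⟩ := p.surjective s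
  have h4 := Groth.Agent.Flat2G.ProperDim.topologicalKrullDim_fiber_baseChange A.hom (Red.bc p A).hom
    (pullback.fst A.hom p) p (IsPullback.of_hasPullback A.hom p) s'
  rw [h.fibreDim] at h4
  exact h4.symm

/-- Geometric points lift along finite surjective morphisms. -/
theorem exists_geom {T T' : Scheme.{u}} (p : T' ⟶ T) [Surjective p] [LocallyOfFiniteType p] (Ω : Type u) [Field Ω]
    [IsAlgClosed Ω] (t : Spec (CommRingCat.of Ω) ⟶ T) : ∃ t' : Spec (CommRingCat.of Ω) ⟶ T', t' ≫ p = t := by
  have hne : Nonempty ↥(pullback p t) := by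
    obtain ⟨z, -⟩ := (pullback.snd p t).surjective (IsLocalRing.closedPoint Ω)
    exact ⟨z⟩
  have : JacobsonSpace ↥(pullback p t) := LocallyOfFiniteType.jacobsonSpace (pullback.snd p t)
  have h : (closedPoints ↥(pullback p t)).Nonempty := by
    rw [Set.nonempty_iff_ne_empty]
    intro h0
    have h1 := closure_closedPoints (X := ↥(pullback p t))
    rw [h0, closure_empty] at h1
    exact Set.empty_ne_univ h1
  obtain ⟨x, hx⟩ := h
  refine ⟨pointOfClosedPoint (pullback.snd p t) x hx ≫ pullback.fst p t, ?_⟩
  have h2 := pointOfClosedPoint_comp (pullback.snd p t) x hx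
  rw [Category.assoc, pullback.condition, ← Category.assoc, h2, Category.id_comp]

theorem levDesc (T T' : Scheme.{u}) (p : T' ⟶ T) [Surjective p] [IsFinite p] [Flat p] (A : Over T) [GrpObj A]
    (g n : ℕ) (σ : Fin (2 * g) → (𝟙_ (Over T) ⟶ A))
    (h : AgPol.IsLevelStr (Red.bc p A) g n (fun j => K117.Ag.secBc p (σ j))) : AgPol.IsLevelStr A g n σ := by
  have h' := (isLevelStr_iff A σ p).1 h
  refine ⟨fun j => ?_, fun Ω _ _ t => ?_⟩
  · have h1 := congrArg (fun t : Over.mk p ⟶ A => t.left) (h'.1 j)
    simp only [Over.comp_left, Over.toUnit_left] at h1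
    ext1
    have h2 : Epi p := inferInstance
    exact (cancel_epi p).1 h1
  · obtain ⟨t', rfl⟩ := exists_geom p Ω t
    exact h'.2 Ω t'

end K251.FinDesc
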