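import Groth.Agent.AgPol.K251.FinDesc
import Groth.Agent.AgPol.K639.PolLocal
import Groth.Agent.AgPol.K540.DescObj
import Groth.Agent.AlgSp.K595.DescInst
import Groth.Agent.AgPol.K814.DualNode

/-!
# Polarisation classes descend along fppf covers of the base

`main`: a rigidified class `c` on an abelian scheme `A / T` such that its pull-back to `A ×_T T'` is the class of a
polarisation of degree `d ^ 2`, is such a class (`p : T' ⟶ T` flat, surjective, locally of finite presentation);
`polDesc : K540.Ag.FinDesc.PolDesc`.  The proof is the one of `K639.PolLocal`, with an open cover of the base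
replaced by one fppf cover.
-/

set_option autoImplicit false
universe u

open CategoryTheory Limits MonoidalCategory CartesianMonoidalCategory AlgebraicGeometry
open scoped MonObj

namespace K251.PolDesc

open Groth.Agent Groth.Agent.Grpsch.PicGrp Groth.Agent.Fga.RigGrp K732.PicZero K732.Prim K732.Dual K732.BC
open K732.Cov K732.CubeSec K117.Ag K814

section cover

variable {T T' : Scheme.{u}} (p : T' ⟶ T) [Flat p] [LocallyOfFinitePresentation p] [Surjective p]

/-- The covering of a `T`-scheme by its base change. -/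
noncomputable def cov (W : Over T) : FCov W :=
  ⟨PUnit, fun _ => dn p (Red.bc p W), fun _ => prj p W,
    fun _ => inferInstanceAs (Flat (pullback.fst W.hom p)),
    fun _ => inferInstanceAs (LocallyOfFinitePresentation (pullback.fst W.hom p)), fun t => by
      obtain ⟨z, hz⟩ := (pullback.fst W.hom p).surjective t
      exact ⟨⟨⟩, z, hz⟩⟩

/-- The covering of the final `T`-scheme. -/
noncomputable def cov1 : FCov (𝟙_ (Over T)) :=
  ⟨PUnit, fun _ => Over.mk p, fun _ => Over.homMk p (Category.comp_id _),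
    fun _ => inferInstanceAs (Flat p),
    fun _ => inferInstanceAs (LocallyOfFinitePresentation p), fun t => by
      obtain ⟨z, hz⟩ := p.surjective t
      exact ⟨⟨⟩, z, hz⟩⟩

end cover

section main

variable {T T' : Scheme.{u}} {A : Over T} [GrpObj A] {g d : ℕ} (p : T' ⟶ T) [Flat p]
  [LocallyOfFinitePresentation p] [Surjective p]

omit [Flat p] in
/-- A class which is a polarisation class after base change is relatively ample. -/
theorem isRelAmple (hA : AgPol.IsAbSch A g) (L : A.left.Modules)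
    (hL : PicF.IsInvertible L)
    (hc : IsPolCl (Red.bc p A) d (pull (pullback.fst A.hom p) (mk L hL))) :
    RelAmple.IsRelAmple A.hom L := by
  have := hA.smooth
  have := hA.proper
  refine K533.GeomAmple.isRelAmple_of_geom A.hom L hL fun Ω _ _ t => ?_
  obtain ⟨t', rfl⟩ := K251.FinDesc.exists_geom p Ω t
  have h0 := hc
  rw [pull_mk] at h0
  have h1 := K639.PolLocal.ample_geom (K533.PolBC.isAbSch_bc p hA) _ _ h0 Ω t'
  let e : (Red.bc t' (Red.bc p A)).left ≅ (Red.bc (t' ≫ p) A).left :=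
    pullbackLeftPullbackSndIso A.hom p t'
  have e1 : pullback.fst (Red.bc p A).hom t' ≫ pullback.fst A.hom p =
      e.hom ≫ pullback.fst A.hom (t' ≫ p) :=
    (pullbackLeftPullbackSndIso_hom_fst _ _ _).symm
  rw [← Models2.AmplePull.isAmple_pullback_comp, Models2.AmplePull.isAmple_pullback_congr e1,
    Models2.AmplePull.isAmple_pullback_iff_of_isIso] at h1
  exact h1

end main

section glue

variable {T : Scheme.{u}} {A At : Over T} [GrpObj A] [IsCommMonObj A] [GrpObj At] [IsProper A.hom]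
  [Flat A.hom] [LocallyOfFinitePresentation A.hom] [GeometricallyIntegral A.hom]
  {φ : AgPol.DualMap A At}
  (hD : AbDual.IsDualAV Scheme.fppfPrecoverage A At φ)
  {ξ : Pic (PicF.XT A.hom At)} (h1 : ξ ∈ pz A.hom At) (h2 : ξ ∈ rg A At) (h3 : cm φ ξ = 𝟙 At)

include hD h1 h2 h3

variable {T' : Scheme.{u}} {p : T' ⟶ T} [Flat p] [LocallyOfFinitePresentation p] [Surjective p] {c : Pic A.left}
  {l : Red.bc p A ⟶ Red.bc p At}
  (hp : AgPol.IsPolarization (Red.bc p A) (Red.bc p At) (AgPol.bcDual p A At φ) l)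
  (hc : pull (pullback.fst A.hom p) c = ev (𝟙 _) l (bcXi p A At ξ))

include hp hc

omit [IsCommMonObj A] in
/-- The homomorphism attached to `c` equalises the kernel pair of the squaring. -/
theorem compat {W : Over T} (a b : W ⟶ A) (h : a * a = b * b) :
    a ≫ MumHom.hom φ c = b ≫ MumHom.hom φ c := by
  refine (cov p W).hom_ext fun _ => ?_
  have := hp.1
  have h4 := K639.PolLocal.map_hom hD h1 h2 h3 p hp hc
  apply up_inj
  have e1 := K639.PolLocal.up_comp_sq p h4 (W := Red.bc p W) (prj p W ≫ a)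
  have e2 := K639.PolLocal.up_comp_sq p h4 (W := Red.bc p W) (prj p W ≫ b)
  rw [← MonObj.comp_mul, Category.assoc] at e1 e2
  exact e1.trans (by rw [h]; exact e2.symm)

/-- **Descent of polarisations.** -/
theorem exists_glue : ∃ lam : A ⟶ At, (Over.pullback p).map lam = l := by
  have f1 := MulEpi.surjective_pow A 2 (by norm_num)
  have f2 := MulEpi.flat_pow A 2 (by norm_num)
  have f3 : LocallyOfFinitePresentation (𝟙 A ^ 2 : A ⟶ A).left := by
    have : LocallyOfFinitePresentation ((𝟙 A ^ 2 : A ⟶ A).left ≫ A.hom) := by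
      rw [Over.w]
      infer_instance
    exact Ega43.FPOfComp.locallyOfFinitePresentation_of_comp _ A.hom
  obtain ⟨lam, hlam⟩ := (single (𝟙 A ^ 2 : A ⟶ A)).glue_hom (Y := At) (fun _ => (MumHom.hom φ c : A ⟶ At)) (by
    intro _ _ W (a : W ⟶ A) (b : W ⟶ A) hab
    refine compat hD h1 h2 h3 hp hc a b ?_
    have hab' : a ≫ (𝟙 A ^ 2 : A ⟶ A) = b ≫ (𝟙 A ^ 2 : A ⟶ A) := hab
    rwa [MonObj.comp_pow, MonObj.comp_pow, Category.comp_id, Category.comp_id, pow_two, pow_two] at hab')
  have hl : (𝟙 A ^ 2 : A ⟶ A) ≫ lam = MumHom.hom φ c := hlam ⟨⟩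
  refine ⟨lam, ?_⟩
  have i1 : IsProper (Red.bc p A).hom := inferInstanceAs (IsProper (pullback.snd A.hom p))
  have i2 : Flat (Red.bc p A).hom := inferInstanceAs (Flat (pullback.snd A.hom p))
  have i3 : LocallyOfFinitePresentation (Red.bc p A).hom :=
    inferInstanceAs (LocallyOfFinitePresentation (pullback.snd A.hom p))
  have i4 : GeometricallyIntegral (Red.bc p A).hom :=
    inferInstanceAs (GeometricallyIntegral (pullback.snd A.hom p))
  have := hp.1
  have := MulEpi.epi_pow (Red.bc p A) 2 (by norm_num)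
  have h4 : (Over.pullback p).map (𝟙 A ^ 2 : A ⟶ A) = 𝟙 (Red.bc p A) ^ 2 := by
    have := Groth.Agent.Grpsch.AbBC.map_zpow_one p A ((2 : ℕ) : ℤ)
    rwa [zpow_natCast, zpow_natCast] at this
  rw [← cancel_epi (𝟙 (Red.bc p A) ^ 2 : Red.bc p A ⟶ Red.bc p A)]
  refine Eq.trans ?_ (MonObj.pow_comp (𝟙 (Red.bc p A)) 2 l).symm
  rw [Category.id_comp, pow_two l, ← K639.PolLocal.map_hom hD h1 h2 h3 p hp hc, ← hl, Functor.map_comp, h4]

omit [IsCommMonObj A] hD h1 h2 h3 hc [IsProper A.hom]
  [Flat A.hom] [LocallyOfFinitePresentation A.hom] [GeometricallyIntegral A.hom] in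
/-- The descended morphism is a homomorphism. -/
theorem isMonHom_glue {lam : A ⟶ At} (hl : (Over.pullback p).map lam = l) : IsMonHom lam := by
  refine K732.Bidual.isMonHom_of_mul _ fun W a b => (cov p W).hom_ext fun _ => up_inj ?_
  have := hp.1
  have key : ∀ x : dn p (Red.bc p W) ⟶ A, up (x ≫ lam) = up x ≫ l := fun x => by
    rw [up_comp, hl]
  change up (prj p W ≫ (a * b) ≫ lam) = up (prj p W ≫ ((a ≫ lam) * (b ≫ lam)))
  rw [← Category.assoc, key, MonObj.comp_mul, up_mul, MonObj.mul_comp, MonObj.comp_mul, up_mul,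
    ← Category.assoc, ← Category.assoc, key, key]

omit [IsCommMonObj A] hc in
/-- The descended morphism is a polarisation. -/
theorem isPolarization_glue {lam : A ⟶ At} (hl : (Over.pullback p).map lam = l) :
    AgPol.IsPolarization A At φ lam := by
  refine ⟨isMonHom_glue hp hl, fun Ω _ _ t => ?_⟩
  obtain ⟨t', rfl⟩ := K251.FinDesc.exists_geom p Ω t
  obtain ⟨L', hL', hlam'⟩ := hp.2 Ω t'
  let k : T' ⟶ T := p
  let e : (Red.bc t' (Red.bc k A)).left ≅ (Red.bc (t' ≫ k) A).left := pullbackLeftPullbackSndIso A.hom k t'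
  have e1 : e.hom ≫ pullback.fst A.hom (t' ≫ k) = pullback.fst (Red.bc k A).hom t' ≫ pullback.fst A.hom k :=
    pullbackLeftPullbackSndIso_hom_fst _ _ _
  have e2 : e.hom ≫ pullback.snd A.hom (t' ≫ k) = pullback.snd (Red.bc k A).hom t' :=
    pullbackLeftPullbackSndIso_hom_snd _ _ _
  have hL : CohB1.IsAmple ((Scheme.Modules.pullback e.inv).obj L') := Models2.AmplePull.isAmple_pullback _ hL'
  refine ⟨_, hL, K533.PolBC.isLambda_of_ev (t' ≫ k) hD h1 h3 lam hL.1 fun W a b => ?_⟩
  have i1 : IsProper (Red.bc k A).hom := inferInstanceAs (IsProper (pullback.snd A.hom k))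
  have i2 : Flat (Red.bc k A).hom := inferInstanceAs (Flat (pullback.snd A.hom k))
  have i3 : LocallyOfFinitePresentation (Red.bc k A).hom :=
    inferInstanceAs (LocallyOfFinitePresentation (pullback.snd A.hom k))
  have i4 : GeometricallyIntegral (Red.bc k A).hom := inferInstanceAs (GeometricallyIntegral (pullback.snd A.hom k))
  let j : dn k (dn t' W) ⟶ dn (t' ≫ k) W := Over.homMk (𝟙 _) (by
    change 𝟙 _ ≫ W.hom ≫ t' ≫ k = (W.hom ≫ t') ≫ k
    rw [Category.id_comp, Category.assoc])
  have h5 : ∀ a : dn (t' ≫ k) W ⟶ A, (up (up (j ≫ a))).left ≫ e.hom = (up a).left := by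
    intro a
    apply pullback.hom_ext
    · rw [Category.assoc, e1, ← Category.assoc, up_left_fst, up_left_fst, up_left_fst]
      exact Category.id_comp _
    · rw [Category.assoc, e2, up_left_snd]
      exact (up_left_snd a).symm
  have h6 : ∀ a : dn (t' ≫ k) W ⟶ A, pull (up a).left (mk _ hL.1) = pull (up (up (j ≫ a))).left (mk L' hL'.1) := by
    intro a
    rw [← h5, pull_comp, ← pull_mk e.inv hL'.1, ← pull_comp e.hom, Iso.hom_inv_id, pull_id]
  have h7 := K814.Fibre.fibre (A := Red.bc k A) (isDualAV_bc hD) (bcXi_mem_pz h1) (bcXi_mem_rg h2)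
    (K533.PolBC.cm_bcXi_eq k hD h1 h3) t' l hL'.1 hlam' (W := W) (up (j ≫ a)) (up (j ≫ b))
  rw [K533.PolBC.up_eq_up, K533.PolBC.up_eq_up, K513.Lam.lam, ← hl, ← up_comp, ev_bcXi, ← up_mul, ← up_mul,
    ← MonObj.comp_mul, Category.assoc, ← pull_ev] at h7
  rw [h6, h6, h6]
  exact (pull_id _).symm.trans h7

omit [GrpObj A] [GrpObj At] [IsCommMonObj A] hD h1 h2 h3 hp hc [IsProper A.hom]
  [Flat A.hom] [LocallyOfFinitePresentation A.hom] [GeometricallyIntegral A.hom] in
/-- Properties of a morphism of `T`-schemes which descend along fppf covers. -/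
theorem of_desc {lam : A ⟶ At} (P : MorphismProperty Scheme.{u})
    [P.DescendsAlong (@Surjective ⊓ @Flat ⊓ @LocallyOfFinitePresentation)]
    (h : P ((Over.pullback p).map lam).left) : P lam.left := by
  have h1 : (@Surjective ⊓ @Flat ⊓ @LocallyOfFinitePresentation : MorphismProperty Scheme.{u})
      (pullback.fst At.hom p) := ⟨⟨inferInstance, inferInstance⟩, inferInstance⟩
  exact MorphismProperty.of_isPullback_of_descendsAlong (K533.PolBC.isPullback_map p lam).flip h1 h

omit [GrpObj A] [GrpObj At] [IsCommMonObj A] hD h1 h2 h3 hp hc [IsProper A.hom]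
  [Flat A.hom] [LocallyOfFinitePresentation A.hom] [GeometricallyIntegral A.hom] in
theorem hasDegSq_glue {lam : A ⟶ At} {d : ℕ} (h : AgPol.HasDegSq ((Over.pullback p).map lam) d) :
    AgPol.HasDegSq lam d := by
  have d1 := K595.DescInst.isFinite.{u}
  have d2 := K595.DescInst.flat.{u}
  have g1 : IsFinite lam.left := of_desc (p := p) @IsFinite h.1
  have g2 : Flat lam.left := of_desc (p := p) @Flat h.2.1
  refine ⟨g1, g2, of_desc (p := p) @LocallyOfFinitePresentation h.2.2.1, fun y => ?_⟩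
  obtain ⟨z, hz⟩ := (pullback.fst At.hom p).surjective y
  have h4 := h.2.2.2 z
  rw [Scheme.Hom.finrank_of_isPullback _ _ _ _ (K533.PolBC.isPullback_map p lam)] at h4
  rw [← hz]
  exact h4

omit [IsCommMonObj A] hD h1 h3 hp in
/-- The descended class. -/
theorem cls_glue {lam : A ⟶ At} (hl : (Over.pullback p).map lam = l)
    (hc1 : pull (η[A] : 𝟙_ (Over T) ⟶ A).left c = 1) : c = ev (𝟙 A) lam ξ := by
  let q : PicF.XT A.hom (𝟙_ (Over T)) ⟶ A.left := pullback.fst A.hom (𝟙_ (Over T)).hom
  have hq : IsIso q := inferInstanceAs (IsIso (pullback.fst A.hom (𝟙 T)))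
  have q1 : ∀ x : 𝟙_ (Over T) ⟶ A, (lift x (𝟙 _)).left ≫ q = x.left := fun x =>
    congrArg CommaMorphism.left (lift_fst x (𝟙 _))
  have q2 : ∀ c : Pic A.left, pull (η[A] : 𝟙_ (Over T) ⟶ A).left c = 1 → pull q c ∈ rg A (𝟙_ (Over T)) := by
    intro c hc
    rw [mem_rg_iff, ev_def, ← pull_comp, q1, K814.MumHom.pull_one_left c hc]
  have q3 : pull (η[A] : 𝟙_ (Over T) ⟶ A).left (ev (𝟙 A) lam ξ) = 1 := by
    rw [K814.Graph.gr_point]
    have e : (η[A] : 𝟙_ (Over T) ⟶ A) = 1 := by simp [Hom.one_def]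
    rw [e, ev_one_of_mem h2]
  have key : pull q c = pull q (ev (𝟙 A) lam ξ) := by
    refine K732.RigSheaf.rg_ext (Over.w η[A]) (bijective_XTproj A.hom) (cov1 p) (q2 _ hc1) (q2 _ q3) fun i => ?_
    have e : PicF.XTmap A.hom ((cov1 p).j i) ≫ q = pullback.fst A.hom p := XTmap_fst _ _
    rw [← pull_comp, ← pull_comp, e]
    refine hc.trans ?_
    rw [← hl]
    exact (K533.PolClBC.pull_ev_bc p lam ξ).symm
  have h8 := congrArg (pull (inv q)) key
  rwa [← pull_comp, ← pull_comp, IsIso.inv_hom_id, pull_id, pull_id] at h8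

end glue

/-- Being a rigidified polarisation class of degree `d ^ 2` descends along fppf covers. -/
theorem main (T T' : Scheme.{u}) [IsLocallyNoetherian T] (p : T' ⟶ T)
    [Surjective p] [Flat p] [LocallyOfFinitePresentation p] (A : Over T) [GrpObj A] [IsCommMonObj A]
    (g d : ℕ) (hA : AgPol.IsAbSch A g) (c : Pic A.left) (hc1 : pull (η[A] : 𝟙_ (Over T) ⟶ A).left c = 1)
    (hc : IsPolCl (Red.bc p A) d (pull (pullback.fst A.hom p) c)) : IsPolCl A d c := by
  have := hA.smooth
  have := hA.proper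
  have := hA.geomConnected
  have hint : GeometricallyIntegral A.hom := K814.AbBasic.geometricallyIntegral A
  obtain ⟨L, hL, hLc⟩ := exists_mk c
  obtain ⟨At, gAt, cAt, φ, hD, -⟩ := K814.DualNode.node T A g hA L (isRelAmple p hA L hL (by
    rw [← hLc]
    exact hc))
  obtain ⟨ξ, h1, h2, h3⟩ := exists_poinc hD (bijective_XTproj A.hom)
  obtain ⟨l, hp, hd, hcl⟩ : ∃ l : Red.bc p A ⟶ Red.bc p At,
      AgPol.IsPolarization (Red.bc p A) (Red.bc p At) (AgPol.bcDual p A At φ) l ∧
        AgPol.HasDegSq l d ∧ pull (pullback.fst A.hom p) c = ev (𝟙 _) l (bcXi p A At ξ) := by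
    have i1 : IsProper (Red.bc p A).hom := inferInstanceAs (IsProper (pullback.snd A.hom p))
    have i2 : Flat (Red.bc p A).hom := inferInstanceAs (Flat (pullback.snd A.hom p))
    have i3 : LocallyOfFinitePresentation (Red.bc p A).hom :=
      inferInstanceAs (LocallyOfFinitePresentation (pullback.snd A.hom p))
    have i4 : GeometricallyIntegral (Red.bc p A).hom :=
      inferInstanceAs (GeometricallyIntegral (pullback.snd A.hom p))
    exact K513.PolUniq.exists_lam (isDualAV_bc hD) (bcXi_mem_pz h1) (bcXi_mem_rg h2)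
      (K533.PolBC.cm_bcXi_eq p hD h1 h3) hc
  obtain ⟨lam, hl⟩ := exists_glue hD h1 h2 h3 hp hcl
  have hpol := isPolarization_glue hD h1 h2 h3 hp hl
  refine ⟨At, gAt, cAt, φ, ξ, lam, hD, h1, h2, h3, hpol, hasDegSq_glue (p := p) ?_,
    cls_glue h2 hcl hl hc1⟩
  rw [hl]
  exact hd

/-- **POLDESC** -/
theorem polDesc : K540.Ag.FinDesc.PolDesc.{u} := by
  intro T T' _ _ p _ _ _ _ A _ _ g d hA c h1 h
  exact main T T' p A g d hA c h1 h

end K251.PolDesc
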